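import Cfsg.Agent.Lib.Leech.Co0
import Cfsg.Agent.Lib.PG.Slice
import Cfsg.Agent.Lib.PG.Iso

/-!
Lists of minimal vectors stored as bit planes; elements of `Co0` given by matrices.
-/

set_option autoImplicit false

namespace Cfsg.Agent.Leech

open Cfsg Cfsg.Agent.PG Cfsg.Agent.Golay Equiv
open scoped Pointwise

attribute [-simp] Fintype.sum_option

/-- the vector of a list -/
def vec (l : List ℤ) : V := fun p => l.getD (idx p) 0

/-- the vector in column `i` -/
noncomputable def vecP (P : List (List ℕ)) (i : ℕ) : V :=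
  fun p => (colVal (P.getD (idx p) []) i : ℤ) - 8

theorem sum_pt (f : ℕ → ℤ) : ∑ p : GolayPt, f (idx p) = ∑ k ∈ Finset.range 24, f k :=
  Finset.sum_bij (fun p _ => idx p) (fun p _ => Finset.mem_range.2 (idx_lt p))
    (fun _ _ _ _ h => idx_inj h)
    (fun k hk => ⟨pt k, Finset.mem_univ _, idx_pt k (Finset.mem_range.1 hk)⟩) fun _ _ => rfl

theorem dot_vecP {r : List ℤ} (hr : r.length ≤ 24) (P : List (List ℕ)) (i : ℕ) :
    dotInt (vec r) (vecP P i) = lin r P i - 8 * r.sum := by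
  rw [lin_eq_sum r P i 24 hr, sum_eq_sum_getD r 24 hr, Finset.mul_sum, ← Finset.sum_sub_distrib,
    ← sum_pt]
  exact Finset.sum_congr rfl fun p _ => by unfold vec vecP; ring

/-- inner product of lists -/
def dotL (a b : List ℤ) : ℤ := (List.zipWith (fun x y => x * y) a b).sum

theorem dotL_eq_sum (a b : List ℤ) (n : ℕ) (h : a.length ≤ n) :
    dotL a b = ∑ k ∈ Finset.range n, a.getD k 0 * b.getD k 0 := by
  induction a generalizing b n with
  | nil => simp [dotL]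
  | cons x a ih =>
    cases b with
    | nil => simp [dotL]
    | cons y b =>
      obtain ⟨n, rfl⟩ : ∃ k, n = k + 1 := ⟨n - 1, by simp at h; omega⟩
      have : dotL (x :: a) (y :: b) = x * y + dotL a b := by simp [dotL]
      rw [this, Finset.sum_range_succ', ih b n (by simpa using h)]
      simp [add_comm]

theorem dot_vec {a : List ℤ} (h : a.length ≤ 24) (b : List ℤ) :
    dotInt (vec a) (vec b) = dotL a b := by
  rw [dotL_eq_sum a b 24 h, ← sum_pt]; rfl

/-- the columns in `B` with a given inner product -/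
noncomputable def dotM (B : ℕ) (r : List ℤ) (P : List (List ℕ)) (c : ℤ) : ℕ :=
  zeroM B ((-(c + 8 * r.sum)) :: r) ([B] :: P)

theorem dotM_spec {B : ℕ} {r : List ℤ} (hr : r.length ≤ 24) {P : List (List ℕ)} {c : ℤ} {i : ℕ} :
    (dotM B r P c).testBit i = true ↔ B.testBit i = true ∧ dotInt (vec r) (vecP P i) = c := by
  unfold dotM
  rw [zeroM_spec, dot_vecP hr]
  refine and_congr_right fun h => ?_
  rw [lin_cons, colVal_single h]
  omega

/-- the generators as lists -/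
def gensL : List (List ℤ) := [
  [4, 4, 0, 0, 0, 0, 0, 0, 0, 0, 0, 0, 0, 0, 0, 0, 0, 0, 0, 0, 0, 0, 0, 0],
  [-4, 4, 0, 0, 0, 0, 0, 0, 0, 0, 0, 0, 0, 0, 0, 0, 0, 0, 0, 0, 0, 0, 0, 0],
  [-4, 0, 4, 0, 0, 0, 0, 0, 0, 0, 0, 0, 0, 0, 0, 0, 0, 0, 0, 0, 0, 0, 0, 0],
  [-4, 0, 0, 4, 0, 0, 0, 0, 0, 0, 0, 0, 0, 0, 0, 0, 0, 0, 0, 0, 0, 0, 0, 0],
  [-4, 0, 0, 0, 4, 0, 0, 0, 0, 0, 0, 0, 0, 0, 0, 0, 0, 0, 0, 0, 0, 0, 0, 0],
  [-4, 0, 0, 0, 0, 4, 0, 0, 0, 0, 0, 0, 0, 0, 0, 0, 0, 0, 0, 0, 0, 0, 0, 0],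
  [-4, 0, 0, 0, 0, 0, 4, 0, 0, 0, 0, 0, 0, 0, 0, 0, 0, 0, 0, 0, 0, 0, 0, 0],
  [-4, 0, 0, 0, 0, 0, 0, 4, 0, 0, 0, 0, 0, 0, 0, 0, 0, 0, 0, 0, 0, 0, 0, 0],
  [-4, 0, 0, 0, 0, 0, 0, 0, 4, 0, 0, 0, 0, 0, 0, 0, 0, 0, 0, 0, 0, 0, 0, 0],
  [-4, 0, 0, 0, 0, 0, 0, 0, 0, 4, 0, 0, 0, 0, 0, 0, 0, 0, 0, 0, 0, 0, 0, 0],
  [-4, 0, 0, 0, 0, 0, 0, 0, 0, 0, 4, 0, 0, 0, 0, 0, 0, 0, 0, 0, 0, 0, 0, 0],
  [-4, 0, 0, 0, 0, 0, 0, 0, 0, 0, 0, 4, 0, 0, 0, 0, 0, 0, 0, 0, 0, 0, 0, 0],
  [-4, 0, 0, 0, 0, 0, 0, 0, 0, 0, 0, 0, 4, 0, 0, 0, 0, 0, 0, 0, 0, 0, 0, 0],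
  [-4, 0, 0, 0, 0, 0, 0, 0, 0, 0, 0, 0, 0, 4, 0, 0, 0, 0, 0, 0, 0, 0, 0, 0],
  [-4, 0, 0, 0, 0, 0, 0, 0, 0, 0, 0, 0, 0, 0, 4, 0, 0, 0, 0, 0, 0, 0, 0, 0],
  [-4, 0, 0, 0, 0, 0, 0, 0, 0, 0, 0, 0, 0, 0, 0, 4, 0, 0, 0, 0, 0, 0, 0, 0],
  [-4, 0, 0, 0, 0, 0, 0, 0, 0, 0, 0, 0, 0, 0, 0, 0, 4, 0, 0, 0, 0, 0, 0, 0],
  [-4, 0, 0, 0, 0, 0, 0, 0, 0, 0, 0, 0, 0, 0, 0, 0, 0, 4, 0, 0, 0, 0, 0, 0],
  [-4, 0, 0, 0, 0, 0, 0, 0, 0, 0, 0, 0, 0, 0, 0, 0, 0, 0, 4, 0, 0, 0, 0, 0],
  [-4, 0, 0, 0, 0, 0, 0, 0, 0, 0, 0, 0, 0, 0, 0, 0, 0, 0, 0, 4, 0, 0, 0, 0],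
  [-4, 0, 0, 0, 0, 0, 0, 0, 0, 0, 0, 0, 0, 0, 0, 0, 0, 0, 0, 0, 4, 0, 0, 0],
  [-4, 0, 0, 0, 0, 0, 0, 0, 0, 0, 0, 0, 0, 0, 0, 0, 0, 0, 0, 0, 0, 4, 0, 0],
  [-4, 0, 0, 0, 0, 0, 0, 0, 0, 0, 0, 0, 0, 0, 0, 0, 0, 0, 0, 0, 0, 0, 4, 0],
  [-4, 0, 0, 0, 0, 0, 0, 0, 0, 0, 0, 0, 0, 0, 0, 0, 0, 0, 0, 0, 0, 0, 0, 4],
  [2, 0, 0, 0, 0, 0, 0, 0, 0, 0, 0, 0, 2, 0, 2, 0, 2, 2, 2, 0, 0, 0, 2, 2],
  [0, 2, 0, 0, 0, 0, 0, 0, 0, 0, 0, 0, 2, 2, 2, 2, 2, 0, 0, 2, 0, 0, 2, 0],
  [0, 0, 2, 0, 0, 0, 0, 0, 0, 0, 0, 0, 2, 2, 0, 2, 0, 0, 2, 0, 2, 0, 2, 2],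
  [0, 0, 0, 2, 0, 0, 0, 0, 0, 0, 0, 0, 2, 2, 0, 0, 0, 2, 2, 2, 0, 2, 2, 0],
  [0, 0, 0, 0, 2, 0, 0, 0, 0, 0, 0, 0, 2, 2, 0, 0, 2, 2, 0, 2, 2, 0, 0, 2],
  [0, 0, 0, 0, 0, 2, 0, 0, 0, 0, 0, 0, 0, 2, 2, 0, 0, 2, 2, 0, 2, 2, 0, 2],
  [0, 0, 0, 0, 0, 0, 2, 0, 0, 0, 0, 0, 0, 0, 2, 2, 0, 0, 2, 2, 0, 2, 2, 2],
  [0, 0, 0, 0, 0, 0, 0, 2, 0, 0, 0, 0, 2, 0, 2, 2, 0, 2, 2, 2, 2, 0, 0, 0],
  [0, 0, 0, 0, 0, 0, 0, 0, 2, 0, 0, 0, 0, 2, 0, 2, 2, 0, 2, 2, 2, 2, 0, 0],
  [0, 0, 0, 0, 0, 0, 0, 0, 0, 2, 0, 0, 0, 0, 2, 0, 2, 2, 0, 2, 2, 2, 2, 0],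
  [0, 0, 0, 0, 0, 0, 0, 0, 0, 0, 2, 0, 2, 0, 2, 2, 2, 0, 0, 0, 2, 2, 0, 2],
  [0, 0, 0, 0, 0, 0, 0, 0, 0, 0, 0, 2, 0, 2, 0, 2, 2, 2, 0, 0, 0, 2, 2, 2],
  [-3, 1, 1, 1, 1, 1, 1, 1, 1, 1, 1, 1, 1, 1, 1, 1, 1, 1, 1, 1, 1, 1, 1, 1]]

theorem gensL_spec : ∀ k < 37, gensL.getD k [] ∈ gensL ∧ (gensL.getD k []).length ≤ 24 ∧
    vec (gensL.getD k []) = gen k := by decide +kernel

/-- all columns in `B` are lattice vectors -/
noncomputable def memB (P : List (List ℕ)) (B : ℕ) : Bool :=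
  allL gensL fun r => Nat.beq (zero8M B r P) B

theorem memB_spec {P : List (List ℕ)} {B : ℕ} (h : memB P B = true) {i : ℕ} (hi : i ∈ bset B) :
    vecP P i ∈ leechLattice := by
  refine dual_of_gen fun k hk => ?_
  obtain ⟨h1, h2, h3⟩ := gensL_spec k hk
  have h4 := allL_spec h _ h1
  rw [Nat.beq_eq] at h4
  have h5 : (zero8M B (gensL.getD k []) P).testBit i = true := by rw [h4]; exact hi
  rw [← h3, dot_vecP h2]
  have := (zero8M_spec.1 h5).2
  omega

open Classical in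
/-- a vector as a lattice element -/
noncomputable def toL (x : V) : L := if h : x ∈ leechLattice then ⟨x, h⟩ else 0

theorem coe_toL {x : V} (h : x ∈ leechLattice) : (toL x : V) = x := by rw [toL, dif_pos h]

/-- the lattice element of a list -/
noncomputable def mkL (l : List ℤ) : L := toL (vec l)

/-- membership test for a list -/
noncomputable def inB (l : List ℤ) : Bool := allL gensL fun r => decide (dotL r l % 8 = 0)

theorem coe_mkL {l : List ℤ} (h : inB l = true) : (mkL l : V) = vec l :=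
  coe_toL (dual_of_gen fun k hk => by
    obtain ⟨h1, h2, h3⟩ := gensL_spec k hk
    rw [← h3, dot_vec h2]
    exact of_decide_eq_true (allL_spec h _ h1))

/-- the lattice element in column `i` -/
noncomputable def X (P : List (List ℕ)) (i : ℕ) : L := toL (vecP P i)

/-- column `b` is the list `l` -/
noncomputable def colB (P : List (List ℕ)) (b : ℕ) (l : List ℤ) : Bool :=
  allN 24 fun k => decide ((colVal (nthD [] P k) b : ℤ) - 8 = nthD 0 l k)

theorem X_eq {P : List (List ℕ)} {b : ℕ} {l : List ℤ} (h : colB P b l = true) : X P b = mkL l := by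
  unfold X mkL
  congr 1
  funext p
  have := of_decide_eq_true (allN_spec h _ (idx_lt p))
  rwa [nthD_eq, nthD_eq] at this

/-- the linear map of a matrix -/
def mv (M : List (List ℤ)) : V →+ V :=
  AddMonoidHom.mk' (fun x p => dotInt (vec (M.getD (idx p) [])) x)
    fun x y => funext fun _ => dot_add_right _ x y

/-- one row of a matrix equation, on all columns in `B` -/
noncomputable def rowB (B : ℕ) (d : ℤ) (r : List ℤ) (Y : List ℕ) (P : List (List ℕ)) : Bool :=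
  Nat.beq (zeroM B ((8 * d - 8 * r.sum) :: (-d) :: r) ([B] :: Y :: P)) B

theorem rowB_spec {B : ℕ} {d : ℤ} {r : List ℤ} (hr : r.length ≤ 24) {Y : List ℕ}
    {P : List (List ℕ)} (h : rowB B d r Y P = true) {i : ℕ} (hi : i ∈ bset B) :
    d * ((colVal Y i : ℤ) - 8) = dotInt (vec r) (vecP P i) := by
  unfold rowB at h
  rw [Nat.beq_eq] at h
  have h1 := (zeroM_spec.1 (h ▸ hi : (zeroM B _ _).testBit i = true)).2
  rw [lin_cons, lin_cons, colVal_single hi] at h1
  rw [dot_vecP hr]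
  linear_combination -h1

/-- the planes of the generators -/
def PG : List (List ℕ) := [
  [68719476736, 16777216, 68736253951, 68702699521],
  [68719476736, 33554432, 3, 137438953471],
  [68719476736, 67108864, 4, 137438953471],
  [68719476736, 134217728, 8, 137438953471],
  [68719476736, 268435456, 16, 137438953471],
  [68719476736, 536870912, 32, 137438953471],
  [68719476736, 1073741824, 64, 137438953471],
  [68719476736, 2147483648, 128, 137438953471],
  [68719476736, 4294967296, 256, 137438953471],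
  [68719476736, 8589934592, 512, 137438953471],
  [68719476736, 17179869184, 1024, 137438953471],
  [68719476736, 34359738368, 2048, 137438953471],
  [68719476736, 19847446528, 4096, 137438953471],
  [68719476736, 39694893056, 8192, 137438953471],
  [68719476736, 29578231808, 16384, 137438953471],
  [68719476736, 59156463616, 32768, 137438953471],
  [68719476736, 64743276544, 65536, 137438953471],
  [68719476736, 46053457920, 131072, 137438953471],
  [68719476736, 8271167488, 262144, 137438953471],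
  [68719476736, 16542334976, 524288, 137438953471],
  [68719476736, 33084669952, 1048576, 137438953471],
  [68719476736, 66169339904, 2097152, 137438953471],
  [68719476736, 44275073024, 4194304, 137438953471],
  [68719476736, 53502541824, 8388608, 137438953471]]

theorem PG_spec : ∀ k < 37, vecP PG k = gen k := by decide +kernel

/-- the rows are orthogonal of length `d` -/
noncomputable def gramB (d : ℤ) (M : List (List ℤ)) : Bool :=
  allN 24 fun p => andB (Nat.ble (nthD [] M p).length 24) <|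
    andB (decide (dotL (nthD [] M p) (nthD [] M p) = d * d)) <|
    allN p fun q => decide (dotL (nthD [] M p) (nthD [] M q) = 0)

theorem gramB_len {d : ℤ} {M : List (List ℤ)} (h : gramB d M = true) {k : ℕ} (hk : k < 24) :
    (M.getD k []).length ≤ 24 := by
  have := allN_spec h k hk
  simp only [andB_eq, Bool.and_eq_true, Nat.ble_eq, nthD_eq] at this
  exact this.1

theorem gramB_spec {d : ℤ} (hd : d ≠ 0) {M : List (List ℤ)} (h : gramB d M = true) (x : V) :
    sqNorm (mv M x) = d ^ 2 * sqNorm x := by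
  let A : Matrix GolayPt GolayPt ℤ := Matrix.of fun p q => vec (M.getD (idx p) []) q
  have h1 : A * A.transpose = (d ^ 2) • (1 : Matrix GolayPt GolayPt ℤ) := by
    have a : ∀ p q : GolayPt, idx q < idx p →
        dotInt (vec (M.getD (idx p) [])) (vec (M.getD (idx q) [])) = 0 := by
      intro p q hq
      have := allN_spec h _ (idx_lt p)
      simp only [andB_eq, Bool.and_eq_true, Nat.ble_eq, nthD_eq] at this
      rw [dot_vec this.1]
      exact of_decide_eq_true (allN_spec this.2.2 _ hq)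
    ext p q
    show dotInt (vec (M.getD (idx p) [])) (vec (M.getD (idx q) [])) = _
    rw [Matrix.smul_apply, Matrix.one_apply]
    split_ifs with hpq
    · subst hpq
      have := allN_spec h _ (idx_lt p)
      simp only [andB_eq, Bool.and_eq_true, Nat.ble_eq, nthD_eq, decide_eq_true_eq] at this
      rw [dot_vec this.1, this.2.1]; simp [sq]
    · rcases lt_or_gt_of_ne (fun e => hpq (idx_inj e)) with b | b
      · rw [dot_comm, a q p b]; simp
      · rw [a p q b]; simp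
  have h2 : A.det ≠ 0 := by
    intro e
    have := congrArg Matrix.det h1
    rw [Matrix.det_mul, e, zero_mul, Matrix.det_smul, Matrix.det_one, mul_one] at this
    exact pow_ne_zero _ (pow_ne_zero _ hd) this.symm
  have h3 : A.transpose * A = (d ^ 2) • (1 : Matrix GolayPt GolayPt ℤ) := by
    apply Matrix.isRegular_of_isLeftRegular_det (IsRegular.of_ne_zero h2).left |>.left
    show A * _ = A * _
    rw [← Matrix.mul_assoc, h1, Matrix.smul_mul, Matrix.mul_smul, one_mul, mul_one]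
  have e : mv M x = A.mulVec x := rfl
  have e' : ∀ y : V, sqNorm y = y ⬝ᵥ y := fun y => sqNorm_eq_dot y
  rw [e, e', e', Matrix.dotProduct_mulVec, Matrix.vecMul_mulVec, h3, Matrix.vecMul_smul,
    Matrix.vecMul_one, smul_dotProduct, smul_eq_mul]

/-- `M / d` preserves the lattice; `Q` holds the images of the generators -/
noncomputable def coB (d : ℤ) (M : List (List ℤ)) (Q : List (List ℕ)) : Bool :=
  andB (gramB d M) <| andB (memB Q (ivl 0 37)) <|
    allN 24 fun k => rowB (ivl 0 37) d (nthD [] M k) (nthD [] Q k) PG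

/-- `g` is given by the matrix `M / d` -/
def IsMat (g : Co0) (d : ℤ) (M : List (List ℤ)) : Prop :=
  d ≠ 0 ∧ (∀ k < 24, (M.getD k []).length ≤ 24) ∧ ∀ v : L, d • ((g • v : L) : V) = mv M v

theorem coB_spec {d : ℤ} (hd : d ≠ 0) {M : List (List ℤ)} {Q : List (List ℕ)}
    (h : coB d M Q = true) : ∃ g : Co0, IsMat g d M := by
  unfold coB at h
  simp only [andB_eq, Bool.and_eq_true] at h
  obtain ⟨g, hg⟩ := exists_co (mv M) hd (fun k hk => ⟨vecP Q k,
    memB_spec h.2.1 (mem_bset_ivl.2 (by omega)), funext fun p => by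
      have := allN_spec h.2.2 _ (idx_lt p)
      rw [nthD_eq, nthD_eq] at this
      rw [← PG_spec k hk]
      exact (rowB_spec (gramB_len h.1 (idx_lt p)) this (mem_bset_ivl.2 (by omega))).symm⟩)
    (gramB_spec hd h.1)
  exact ⟨g, hd, fun k hk => gramB_len h.1 hk, hg⟩

/-- the matrix maps the list `a` to the list `b` -/
noncomputable def mapsL (d : ℤ) (M : List (List ℤ)) (a b : List ℤ) : Bool :=
  andB (inB a) <| andB (inB b) <|
    allN 24 fun k => decide (dotL (nthD [] M k) a = d * nthD 0 b k)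

theorem IsMat.maps {g : Co0} {d : ℤ} {M : List (List ℤ)} (hg : IsMat g d M) {a b : List ℤ}
    (h : mapsL d M a b = true) : g • mkL a = mkL b := by
  unfold mapsL at h
  simp only [andB_eq, Bool.and_eq_true] at h
  refine Subtype.ext (smul_right_injective V hg.1 ?_)
  show d • _ = d • _
  rw [hg.2.2, coe_mkL h.1, coe_mkL h.2.1]
  funext p
  have := of_decide_eq_true (allN_spec h.2.2 _ (idx_lt p))
  rw [nthD_eq, nthD_eq, ← dot_vec (hg.2.1 _ (idx_lt p))] at this
  exact this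

/-- rows `lo, …, lo + n - 1` of the matrix act as the network `j` -/
noncomputable def actB (A : List Net) (j : ℕ) (d : ℤ) (M : List (List ℤ)) (P : List (List ℕ))
    (B lo n : ℕ) : Bool :=
  allN n fun k => rowB B d (nthD [] M (lo + k)) (mapF (papp1 A [gw j]) (nthD [] P (lo + k))) P

theorem actB_join {A : List Net} {j : ℕ} {d : ℤ} {M : List (List ℤ)} {P : List (List ℕ)}
    {B lo n m : ℕ} (h1 : actB A j d M P B lo n = true) (h2 : actB A j d M P B (lo + n) m = true) :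
    actB A j d M P B lo (n + m) = true := by
  induction m with
  | zero => exact h1
  | succ m ih =>
    have h3 : andB _ (actB A j d M P B (lo + n) m) = true := h2
    rw [andB_eq, Bool.and_eq_true] at h3
    show andB _ (actB A j d M P B lo (n + m)) = true
    rw [ih h3.2, andB_eq, Bool.and_true]
    have h4 := h3.1
    simp only [Nat.add_assoc] at h4
    exact h4

theorem IsMat.acts {g : Co0} {d : ℤ} {M : List (List ℤ)} (hg : IsMat g d M) {N : ℕ} {A : List Net}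
    (hA : okA N A = true) {j : ℕ} (hj : j < 128) {P : List (List ℕ)} {B : ℕ}
    (hm : memB P B = true) (hB : invB A [[gw j]] B = true) (h : actB A j d M P B 0 24 = true) :
    Acts (X P) (bset B) g (gp A j) := by
  have e : pp A [gw j] = gp A j := by rw [pp_cons, pp_nil, mul_one, sp_gw A hj]
  have h1 : ∀ i, gp A j i ∈ bset B ↔ i ∈ bset B := fun i => by
    have := invB_spec hA hB _ List.mem_cons_self i
    rw [e] at this
    exact Bool.eq_iff_iff.1 this
  refine ⟨h1, fun i hi => Subtype.ext (smul_right_injective V hg.1 ?_)⟩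
  show d • _ = d • _
  rw [hg.2.2, X, X, coe_toL (memB_spec hm hi), coe_toL (memB_spec hm ((h1 i).2 hi))]
  funext p
  have := allN_spec h _ (idx_lt p)
  rw [nthD_eq, nthD_eq, Nat.zero_add] at this
  have h2 := rowB_spec (hg.2.1 _ (idx_lt p)) this hi
  rw [colVal_mapF (j := gp A j i) fun v => by rw [testBit_papp1 hA, e]] at h2
  exact h2.symm

theorem acts_K_sub {G Y : Type*} [Group G] [MulAction G Y] {A : List Net} {X : ℕ → Y} {B : Set ℕ}
    {t : ℕ} {H : Subgroup G} (h : ∀ j, t ≤ j → j < A.length → ∃ g ∈ H, Acts X B g (gp A j)) :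
    ∀ σ ∈ K A t, ∃ g ∈ H, Acts X B g σ := by
  intro σ hσ
  obtain ⟨g, hg⟩ := acts_K_of_gens (G := H) (X := X) (B := B)
    (fun j h1 h2 => (h j h1 h2).elim fun g hg => ⟨⟨g, hg.1⟩, hg.2⟩) σ hσ
  exact ⟨g, g.2, hg⟩

theorem injOn_X {P : List (List ℕ)} {lo hi : ℕ} (hm : memB P (ivl lo hi) = true)
    (hl : P.length ≤ 24) (h : sortedB P.flatten lo hi = true) :
    Set.InjOn (X P) (bset (ivl lo hi)) := by
  intro i hi' j hj e
  refine sortedB_inj h hi' hj (colVal_flatten_inj fun S hS => ?_)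
  have e1 := congrArg Subtype.val e
  rw [X, X, coe_toL (memB_spec hm hi'), coe_toL (memB_spec hm hj)] at e1
  obtain ⟨k, hk, rfl⟩ := List.getElem_of_mem hS
  have := congrFun e1 (pt k)
  unfold vecP at this
  rw [idx_pt k (by omega), List.getD_eq_getElem _ _ hk] at this
  omega

/-- a list of minimal vectors permuted by elements of `H` as the networks permute the indices -/
structure Lay (A : List Net) (P : List (List ℕ)) (B : ℕ) (H : Subgroup Co0) : Prop where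
  /-- valid networks -/
  hA : ∃ N, okA N A = true
  /-- the action -/
  acts : ∀ σ ∈ K A 0, ∃ g ∈ H, Acts (X P) (bset B) g σ
  /-- lattice vectors -/
  mem : memB P B = true
  /-- no repetitions -/
  inj : Set.InjOn (X P) (bset B)
  /-- minimal vectors -/
  min : ∀ i ∈ bset B, sqNorm (X P i : V) = 32

theorem min_of_cover {N : ℕ} {A : List Net} (hA : okA N A = true) (hl : A.length ≤ 128)
    {P : List (List ℕ)} {B : ℕ} {H : Subgroup Co0}
    (acts : ∀ σ ∈ K A 0, ∃ g ∈ H, Acts (X P) (bset B) g σ) {r : ℕ} {rs : List ℕ}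
    (h : coverB A (kgens A 0) r rs B = true) (hr : ∀ a ∈ rs, sqNorm (X P a : V) = 32) :
    ∀ i ∈ bset B, sqNorm (X P i : V) = 32 := by
  intro i hi
  obtain ⟨a, ha, σ, hσ, rfl⟩ := coverB_spec hA (kgens_mem hl 0) h hi
  obtain ⟨g, _, hg⟩ := acts σ hσ
  rw [← hg.2 a ((hg.1 a).1 hi), co_norm, hr a ha]

theorem norm_mkL {l : List ℤ} {n : ℤ}
    (h : andB (inB l) (andB (Nat.ble l.length 24) (decide (dotL l l = n))) = true) :
    sqNorm (mkL l : V) = n := by
  simp only [andB_eq, Bool.and_eq_true, Nat.ble_eq, decide_eq_true_eq] at h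
  rw [coe_mkL h.1, sqNorm_eq_dot, dot_vec h.2.1, h.2.2]

theorem dot_mkL {a b : List ℤ} {n : ℤ} (h : andB (inB a) (andB (inB b)
    (andB (Nat.ble a.length 24) (decide (dotL a b = n)))) = true) :
    dotInt (mkL a : V) (mkL b : V) = n := by
  simp only [andB_eq, Bool.and_eq_true, Nat.ble_eq, decide_eq_true_eq] at h
  rw [coe_mkL h.1, coe_mkL h.2.1, dot_vec h.2.2.1, h.2.2.2]

/-- minimal vectors with prescribed inner products -/
def fam (cs : List (List ℤ × ℤ)) : Set L :=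
  {x | sqNorm (x : V) = 32 ∧ ∀ q ∈ cs, dotInt (mkL q.1 : V) (x : V) = q.2}

/-- the columns with prescribed inner products -/
noncomputable def famM (B : ℕ) (P : List (List ℕ)) (cs : List (List ℤ × ℤ)) : ℕ :=
  List.rec (motive := fun _ => ℕ) B (fun q _ ih => force ih fun b => dotM b q.1 P q.2) cs

/-- the vectors are in the lattice -/
noncomputable def csB (cs : List (List ℤ × ℤ)) : Bool :=
  allL cs fun q => andB (inB q.1) (Nat.ble q.1.length 24)

theorem famM_spec {B : ℕ} {P : List (List ℕ)} {cs : List (List ℤ × ℤ)} (h : csB cs = true) {i : ℕ} :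
    i ∈ bset (famM B P cs) ↔ i ∈ bset B ∧ ∀ q ∈ cs, dotInt (mkL q.1 : V) (vecP P i) = q.2 := by
  induction cs with
  | nil => simp; rfl
  | cons q cs ih =>
    have h1 : andB (andB (inB q.1) (Nat.ble q.1.length 24)) (csB cs) = true := h
    simp only [andB_eq, Bool.and_eq_true, Nat.ble_eq] at h1
    show (force (famM B P cs) fun b => dotM b q.1 P q.2).testBit i = true ↔ _
    rw [force_eq, dotM_spec h1.1.2, List.forall_mem_cons, coe_mkL h1.1.1]
    have := ih h1.2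
    unfold bset at this
    simp only [Set.mem_ofPred_eq] at this
    rw [this]; unfold bset; simp only [Set.mem_ofPred_eq]; tauto

theorem finite_fam (cs : List (List ℤ × ℤ)) : (fam cs).Finite :=
  (finite_normL 32).subset fun _ h => h.1

/-- all vectors of the family occur -/
def Full (P : List (List ℕ)) (B : ℕ) (cs : List (List ℤ × ℤ)) : Prop :=
  ∀ x ∈ fam cs, ∃ i ∈ bset B, X P i = x

variable {A : List Net} {P : List (List ℕ)} {B : ℕ} {H : Subgroup Co0}

theorem Lay.mem_famM (h : Lay A P B H) {cs : List (List ℤ × ℤ)} (hc : csB cs = true) {i : ℕ} :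
    i ∈ bset (famM B P cs) ↔ i ∈ bset B ∧ X P i ∈ fam cs := by
  rw [famM_spec hc]
  refine and_congr_right fun hi => ?_
  have := h.min i hi
  unfold fam
  rw [Set.mem_ofPred_eq, and_iff_right this, X, coe_toL (memB_spec h.mem hi)]

theorem Full.mono {cs cs' : List (List ℤ × ℤ)} (h : Full P B cs) (hs : ∀ q ∈ cs, q ∈ cs') :
    Full P B cs' := fun x hx => h x ⟨hx.1, fun q hq => hx.2 q (hs q hq)⟩

theorem Lay.image (h : Lay A P B H) {cs : List (List ℤ × ℤ)} (hc : csB cs = true)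
    (hf : Full P B cs) : X P '' bset (famM B P cs) = fam cs := by
  ext x
  constructor
  · rintro ⟨i, hi, rfl⟩; exact ((h.mem_famM hc).1 hi).2
  · intro hx
    obtain ⟨i, hi, rfl⟩ := hf x hx
    exact ⟨i, (h.mem_famM hc).2 ⟨hi, hx⟩, rfl⟩

theorem Lay.ncard (h : Lay A P B H) {cs : List (List ℤ × ℤ)} (hf : Full P B cs) {l n : ℕ}
    (hn : andB (csB cs) (force (famM B P cs) fun v => cardB l v n) = true) : (fam cs).ncard = n := by
  rw [andB_eq, Bool.and_eq_true, force_eq] at hn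
  rw [← h.image hn.1 hf, (h.inj.mono fun i hi => ((h.mem_famM hn.1).1 hi).1).ncard_image,
    cardB_spec hn.2]

theorem Lay.full (h : Lay A P B H) {cs : List (List ℤ × ℤ)} {l n : ℕ} (hf : (fam cs).ncard = n)
    (hn : andB (csB cs) (force (famM B P cs) fun v => cardB l v n) = true) : Full P B cs := by
  rw [andB_eq, Bool.and_eq_true, force_eq] at hn
  have := Set.eq_of_subset_of_ncard_le (s := X P '' bset (famM B P cs)) (t := fam cs)
    (by rintro _ ⟨i, hi, rfl⟩; exact ((h.mem_famM hn.1).1 hi).2)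
    (by rw [hf, (h.inj.mono fun i hi => ((h.mem_famM hn.1).1 hi).1).ncard_image, cardB_spec hn.2])
    (finite_fam cs)
  intro x hx
  rw [← this] at hx
  obtain ⟨i, hi, e⟩ := hx
  exact ⟨i, ((h.mem_famM hn.1).1 hi).1, e⟩

/-- certificate for orbits on a family -/
noncomputable def trB (A : List Net) (P : List (List ℕ)) (B : ℕ) (cs : List (List ℤ × ℤ))
    (gens : List (List ℕ)) (bs : List ℕ) (r : ℕ) (rs : List ℕ) : Bool :=
  andB (csB cs) <| andB (allL bs (bit B)) <|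
    andB (fixB A gens bs) (coverB A gens r rs (famM B P cs))

theorem Lay.trans (h : Lay A P B H) {cs : List (List ℤ × ℤ)} (hf : Full P B cs)
    {gens : List (List ℕ)} {bs rs : List ℕ} {r : ℕ} (ht : trB A P B cs gens bs r rs = true) :
    ∀ x ∈ fam cs, ∃ a ∈ rs, ∃ g ∈ H, (∀ b ∈ bs, g • X P b = X P b) ∧ g • X P a = x := by
  unfold trB at ht
  rw [andB_eq, andB_eq, Bool.and_eq_true, Bool.and_eq_true] at ht
  obtain ⟨N, hA⟩ := h.hA
  intro x hx
  rw [← h.image ht.1 hf] at hx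
  obtain ⟨i, hi, rfl⟩ := hx
  obtain ⟨a, ha, σ, hσ, h1, rfl⟩ := cover_fix hA ht.2.2 hi
  obtain ⟨g, hg, h2⟩ := h.acts σ hσ
  refine ⟨a, ha, g, hg, fun b hb => ?_, h2.2 a ((h2.1 a).1 ((h.mem_famM ht.1).1 hi).1)⟩
  have := allL_spec ht.2.1 b hb
  rw [bit_eq] at this
  rw [h2.2 b this, h1 b hb]

end Cfsg.Agent.Leech
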